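import Cfsg.Agent.H26.F24.P0
import Cfsg.Agent.H26.F24.P1
import Cfsg.Agent.H26.F24.P2
import Cfsg.Agent.H26.F24.P3

/-! `Fi₂₄` on 306936 points: relators. -/

set_option maxRecDepth 100000
set_option maxHeartbeats 4000000

namespace H26.F24

theorem P1_ok : ∀ d ∈ P1, ev T.π d.1 = ev T.π d.2 :=
  wf.prs (K := 19) (by decide) (forall_lt_succ (forall_lt_succ (forall_lt_succ (forall_lt_succ (forall_lt_succ (forall_lt_succ (forall_lt_succ (forall_lt_succ (forall_lt_succ (forall_lt_succ (forall_lt_succ (forall_lt_succ (forall_lt_succ (forall_lt_succ (forall_lt_succ (forall_lt_succ (forall_lt_succ (forall_lt_succ (forall_lt_succ forall_lt_zero P1_0) P1_1) P1_2) P1_3) P1_4) P1_5) P1_6) P1_7) P1_8) P1_9) P1_10) P1_11) P1_12) P1_13) P1_14) P1_15) P1_16) P1_17) P1_18)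
theorem P2_ok : ∀ d ∈ P2, ev T.π d.1 = ev T.π d.2 :=
  wf.prs (K := 19) (by decide) (forall_lt_succ (forall_lt_succ (forall_lt_succ (forall_lt_succ (forall_lt_succ (forall_lt_succ (forall_lt_succ (forall_lt_succ (forall_lt_succ (forall_lt_succ (forall_lt_succ (forall_lt_succ (forall_lt_succ (forall_lt_succ (forall_lt_succ (forall_lt_succ (forall_lt_succ (forall_lt_succ (forall_lt_succ forall_lt_zero P2_0) P2_1) P2_2) P2_3) P2_4) P2_5) P2_6) P2_7) P2_8) P2_9) P2_10) P2_11) P2_12) P2_13) P2_14) P2_15) P2_16) P2_17) P2_18)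
theorem P3_ok : ∀ d ∈ P3, ev T.π d.1 = ev T.π d.2 :=
  wf.prs (K := 19) (by decide) (forall_lt_succ (forall_lt_succ (forall_lt_succ (forall_lt_succ (forall_lt_succ (forall_lt_succ (forall_lt_succ (forall_lt_succ (forall_lt_succ (forall_lt_succ (forall_lt_succ (forall_lt_succ (forall_lt_succ (forall_lt_succ (forall_lt_succ (forall_lt_succ (forall_lt_succ (forall_lt_succ (forall_lt_succ forall_lt_zero P3_0) P3_1) P3_2) P3_3) P3_4) P3_5) P3_6) P3_7) P3_8) P3_9) P3_10) P3_11) P3_12) P3_13) P3_14) P3_15) P3_16) P3_17) P3_18)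
/-- letters `a b c d e f g h i j k l` -/
def tau : List (List ℕ) := [[0], [1], [2], [3], [4], [5], [6], [7], [8], [11], [13], [14]]
/-- the word `(dcbakldefgjdhi)^17` -/
def w17 : List ℕ := rep 17 [8,7,3,11,6,5,4,3,14,13,0,1,2,3]
def R : List (List ℕ) := Q24.Q ++ [w17]
def B1 : List (List ℕ) := [[0,0],
  [1,1],
  [2,2],
  [3,3],
  [4,4],
  [5,5],
  [6,6],
  [7,7],
  [8,8],
  [11,11],
  [13,13],
  [14,14],
  [1,0,1,0,1,0],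
  [2,0,2,0],
  [2,1,2,1,2,1],
  [3,0,3,0],
  [3,1,3,1],
  [3,2,3,2,3,2],
  [4,0,4,0],
  [4,1,4,1],
  [4,2,4,2],
  [4,3,4,3,4,3],
  [5,0,5,0],
  [5,1,5,1],
  [5,2,5,2],
  [5,3,5,3],
  [5,4,5,4,5,4],
  [6,0,6,0],
  [6,1,6,1],
  [6,2,6,2],
  [6,3,6,3],
  [6,4,6,4],
  [6,5,6,5,6,5],
  [7,0,7,0],
  [7,1,7,1],
  [7,2,7,2],
  [7,3,7,3,7,3],
  [7,4,7,4],
  [7,5,7,5],
  [7,6,7,6],
  [8,0,8,0],
  [8,1,8,1],
  [8,2,8,2],
  [8,3,8,3],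
  [8,4,8,4],
  [8,5,8,5],
  [8,6,8,6],
  [8,7,8,7,8,7],
  [11,0,11,0],
  [11,1,11,1],
  [11,2,11,2],
  [11,3,11,3],
  [11,4,11,4],
  [11,5,11,5],
  [11,6,11,6,11,6],
  [11,7,11,7],
  [11,8,11,8],
  [13,0,13,0,13,0],
  [13,1,13,1],
  [13,2,13,2],
  [13,3,13,3],
  [13,4,13,4],
  [13,5,13,5],
  [13,6,13,6],
  [13,7,13,7],
  [13,8,13,8],
  [13,11,13,11],
  [14,0,14,0],
  [14,1,14,1],
  [14,2,14,2],
  [14,3,14,3],
  [14,4,14,4],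
  [14,5,14,5],
  [14,6,14,6],
  [14,7,14,7],
  [14,8,14,8],
  [14,11,14,11],
  [14,13,14,13,14,13]]
def Bt : List (List ℕ) := [[0,0],
  [1,1],
  [2,2],
  [3,3],
  [4,4],
  [5,5],
  [6,6],
  [7,7],
  [8,8],
  [11,11],
  [13,13],
  [14,14],
  [1,0,1,0,1,0],
  [2,0,2,0],
  [2,1,2,1,2,1],
  [3,0,3,0],
  [3,1,3,1],
  [3,2,3,2,3,2],
  [4,0,4,0],
  [4,1,4,1],
  [4,2,4,2],
  [4,3,4,3,4,3],
  [5,0,5,0],
  [5,1,5,1],
  [5,2,5,2],
  [5,3,5,3],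
  [5,4,5,4,5,4],
  [6,0,6,0],
  [6,1,6,1],
  [6,2,6,2],
  [6,3,6,3],
  [6,4,6,4],
  [6,5,6,5,6,5],
  [7,0,7,0],
  [7,1,7,1],
  [7,2,7,2],
  [7,3,7,3,7,3],
  [7,4,7,4],
  [7,5,7,5],
  [7,6,7,6],
  [8,0,8,0],
  [8,1,8,1],
  [8,2,8,2],
  [8,3,8,3],
  [8,4,8,4],
  [8,5,8,5],
  [8,6,8,6],
  [8,7,8,7,8,7],
  [11,0,11,0],
  [11,1,11,1],
  [11,2,11,2],
  [11,3,11,3],
  [11,4,11,4],
  [11,5,11,5],
  [11,6,11,6,11,6],
  [11,7,11,7],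
  [11,8,11,8],
  [13,0,13,0,13,0],
  [13,1,13,1],
  [13,2,13,2],
  [13,3,13,3],
  [13,4,13,4],
  [13,5,13,5],
  [13,6,13,6],
  [13,7,13,7],
  [13,8,13,8],
  [13,11,13,11],
  [14,0,14,0],
  [14,1,14,1],
  [14,2,14,2],
  [14,3,14,3],
  [14,4,14,4],
  [14,5,14,5],
  [14,6,14,6],
  [14,7,14,7],
  [14,8,14,8],
  [14,11,14,11],
  [14,13,14,13,14,13],
  [7,5,4,3,2,1,0,7,5,4,3,2,1,0,7,5,4,3,2,1,0,7,5,4,3,2,1,0,7,5,4,3,2,1,0,7,5,4,3,2,1,0,7,5,4,3,2,1,0,7,5,4,3,2,1,0,7,5,4,3,2,1,0,14]]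
theorem inv : InvOK T.π (invL []) := Tab.invOK P1_ok (by decide) (by decide +kernel)
theorem inv0 : InvOK (subG T.π tau) (invL []) := inv.subG_one (by decide +kernel)
theorem rel0 : AllOne (subG T.π tau) Q24.B :=
  allOne_subG (S := Bt) (allOne_sub ((relsOf_spec (R := B1) inv P1_ok (by decide +kernel)).append
    (relsOf_spec (R := [[7,5,4,3,2,1,0,7,5,4,3,2,1,0,7,5,4,3,2,1,0,7,5,4,3,2,1,0,7,5,4,3,2,1,0,7,5,4,3,2,1,0,7,5,4,3,2,1,0,7,5,4,3,2,1,0,7,5,4,3,2,1,0,14]]) inv P2_ok (by decide +kernel))) (I := List.range 79) (by decide +kernel))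
    (by decide +kernel)
theorem sub_eq : subG (subG T.π tau) Q24.sig = T.π :=
  subG_subG_eq (fun _ hg => Tab.π_of_le hg) P2_ok (I := [0,0,0,0,0,0,0,0,0,1,2,0,3,0,0]) (by decide +kernel)
theorem relQ : AllOne T.π Q24.Q := sub_eq ▸ (Q24.ofB inv0 rel0).2
theorem rel : AllOne T.π R := relQ.append (relsOf_spec inv P3_ok (by decide +kernel))

end H26.F24
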