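import Cfsg.Agent.H26.F24.N0
import Cfsg.Agent.H26.F24.N1
import Cfsg.Agent.H26.F24.N2
import Cfsg.Agent.H26.F24.N3
import Cfsg.Agent.H26.Q24

/-! `Fi₂₄` on 306936 points: the table. -/

set_option maxRecDepth 100000
set_option maxHeartbeats 4000000

namespace H26.F24

noncomputable def T : Tab := ⟨306936, [n0, n1, n2, n3, n4, n5, n6, n7, n8, n9, n10, n11, n12, n13, n14]⟩
theorem wf : T.WF := by
  intro N hN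
  simp only [T, List.mem_cons, List.not_mem_nil, or_false] at hN
  rcases hN with rfl | rfl | rfl | rfl | rfl | rfl | rfl | rfl | rfl | rfl | rfl | rfl | rfl | rfl | rfl
  exacts [wf0, wf1, wf2, wf3, wf4, wf5, wf6, wf7, wf8, wf9, wf10, wf11, wf12, wf13, wf14]
noncomputable def P1 : List (List ℕ × List ℕ) := [([0,0], []),
  ([1,1], []),
  ([2,2], []),
  ([3,3], []),
  ([4,4], []),
  ([5,5], []),
  ([6,6], []),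
  ([7,7], []),
  ([8,8], []),
  ([11,11], []),
  ([13,13], []),
  ([14,14], []),
  ([1,0,1], [0,1,0]),
  ([2,0], [0,2]),
  ([2,1,2], [1,2,1]),
  ([3,0], [0,3]),
  ([3,1], [1,3]),
  ([3,2,3], [2,3,2]),
  ([4,0], [0,4]),
  ([4,1], [1,4]),
  ([4,2], [2,4]),
  ([4,3,4], [3,4,3]),
  ([5,0], [0,5]),
  ([5,1], [1,5]),
  ([5,2], [2,5]),
  ([5,3], [3,5]),
  ([5,4,5], [4,5,4]),
  ([6,0], [0,6]),
  ([6,1], [1,6]),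
  ([6,2], [2,6]),
  ([6,3], [3,6]),
  ([6,4], [4,6]),
  ([6,5,6], [5,6,5]),
  ([7,0], [0,7]),
  ([7,1], [1,7]),
  ([7,2], [2,7]),
  ([7,3,7], [3,7,3]),
  ([7,4], [4,7]),
  ([7,5], [5,7]),
  ([7,6], [6,7]),
  ([8,0], [0,8]),
  ([8,1], [1,8]),
  ([8,2], [2,8]),
  ([8,3], [3,8]),
  ([8,4], [4,8]),
  ([8,5], [5,8]),
  ([8,6], [6,8]),
  ([8,7,8], [7,8,7]),
  ([11,0], [0,11]),
  ([11,1], [1,11]),
  ([11,2], [2,11]),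
  ([11,3], [3,11]),
  ([11,4], [4,11]),
  ([11,5], [5,11]),
  ([11,6,11], [6,11,6]),
  ([11,7], [7,11]),
  ([11,8], [8,11]),
  ([13,0,13], [0,13,0]),
  ([13,1], [1,13]),
  ([13,2], [2,13]),
  ([13,3], [3,13]),
  ([13,4], [4,13]),
  ([13,5], [5,13]),
  ([13,6], [6,13]),
  ([13,7], [7,13]),
  ([13,8], [8,13]),
  ([13,11], [11,13]),
  ([14,0], [0,14]),
  ([14,1], [1,14]),
  ([14,2], [2,14]),
  ([14,3], [3,14]),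
  ([14,4], [4,14]),
  ([14,5], [5,14]),
  ([14,6], [6,14]),
  ([14,7], [7,14]),
  ([14,8], [8,14]),
  ([14,11], [11,14]),
  ([14,13,14], [13,14,13]),
  ([9,9], []),
  ([10,10], []),
  ([12,12], [])]
noncomputable def P2 : List (List ℕ × List ℕ) := [([7,5,4,3,2,1,0,7,5,4,3,2,1,0,7,5,4,3,2,1,0,7,5,4,3,2,1,0,7,5,4,3], [14,0,1,2,3,4,5,7,0,1,2,3,4,5,7,0,1,2,3,4,5,7,0,1,2,3,4,5,7,0,1,2]),
  ([9], [7,4,3,2,1,0,7,4,3,2,1,0,7,4,3,2,1,0,7,4,3,2,1,0,7,4,3,2,1,0,14]),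
  ([10], [1,2,3,7,4,5,3,4,2,3,7,6,5,4,3,2,1,2,3,4,5,6,7,3,2,4,3,5,4,7,3,2,1]),
  ([12], [11,6,5,4,3,7,2,3,4,1,2,3,7,5,6,4,5,3,4,2,3,7,1,2,3,4,5,6,11,6,5,4,3,2,1,7,3,2,4,3,5,4,6,5,7,3,2,1,4,3,2,7,3,4,5,6,11])]
noncomputable def P3 : List (List ℕ × List ℕ) := [([8,7,3,11,6,5,4,3,14,13,0,1,2,3,8,7,3,11,6,5,4,3,14,13,0,1,2,3,8,7,3,11,6,5,4,3,14,13,0,1,2,3,8,7,3,11,6,5,4,3,14,13,0,1,2,3,8,7,3,11,6,5,4,3,14,13,0,1,2,3,8,7,3,11,6,5,4,3,14,13,0,1,2,3,8,7,3,11,6,5,4,3,14,13,0,1,2,3,8,7,3,11,6,5,4,3,14,13,0,1,2,3,8,7,3,11,6,5,4], [3,2,1,0,13,14,3,4,5,6,11,3,7,8,3,2,1,0,13,14,3,4,5,6,11,3,7,8,3,2,1,0,13,14,3,4,5,6,11,3,7,8,3,2,1,0,13,14,3,4,5,6,11,3,7,8,3,2,1,0,13,14,3,4,5,6,11,3,7,8,3,2,1,0,13,14,3,4,5,6,11,3,7,8,3,2,1,0,13,14,3,4,5,6,11,3,7,8,3,2,1,0,13,14,3,4,5,6,11,3,7,8,3,2,1,0,13,14,3])]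

end H26.F24
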